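import Mathlib

/-! # Extension of scalars `A ↦ R ⊗_ℤ A` from abelian presheaves to presheaves of modules. -/

set_option autoImplicit false
universe u v₁ u₁
open CategoryTheory Opposite TensorProduct

namespace Groth.Agent.LD.KT

variable {C : Type u₁} [Category.{v₁} C] (R₀ : Cᵒᵖ ⥤ RingCat.{u})

/-- the group `R₀(X) ⊗_ℤ A(X)`. -/
abbrev TZ (A : Cᵒᵖ ⥤ AddCommGrpCat.{u}) (X : Cᵒᵖ) : Type u := (R₀.obj X) ⊗[ℤ] (A.obj X)

/-- transition maps. -/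
noncomputable def tzMap (A : Cᵒᵖ ⥤ AddCommGrpCat.{u}) {X Y : Cᵒᵖ} (f : X ⟶ Y) :
    TZ R₀ A X →+ TZ R₀ A Y :=
  (TensorProduct.map (R₀.map f).hom.toAddMonoidHom.toIntLinearMap
    (A.map f).hom.toIntLinearMap).toAddMonoidHom

lemma tzMap_tmul (A : Cᵒᵖ ⥤ AddCommGrpCat.{u}) {X Y : Cᵒᵖ} (f : X ⟶ Y) (r : R₀.obj X)
    (a : A.obj X) : tzMap R₀ A f (r ⊗ₜ[ℤ] a) = ((R₀.map f).hom r) ⊗ₜ[ℤ] ((A.map f).hom a) := rfl

lemma tz_addHom_ext (A : Cᵒᵖ ⥤ AddCommGrpCat.{u}) {X : Cᵒᵖ} {G : Type*} [AddCommGroup G]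
    {φ ψ : TZ R₀ A X →+ G} (h : ∀ r a, φ (r ⊗ₜ[ℤ] a) = ψ (r ⊗ₜ[ℤ] a)) : φ = ψ := by
  ext x
  induction x using TensorProduct.induction_on with
  | zero => rw [map_zero, map_zero]
  | tmul r a => exact h r a
  | add x y hx hy => rw [map_add, map_add, hx, hy]

/-- the abelian presheaf `X ↦ R₀(X) ⊗_ℤ A(X)`. -/
noncomputable def tzPre (A : Cᵒᵖ ⥤ AddCommGrpCat.{u}) : Cᵒᵖ ⥤ AddCommGrpCat.{u} where
  obj X := AddCommGrpCat.of (TZ R₀ A X)
  map f := AddCommGrpCat.ofHom (tzMap R₀ A f)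
  map_id X := by
    refine AddCommGrpCat.hom_ext (tz_addHom_ext R₀ A fun r a => ?_)
    change tzMap R₀ A (𝟙 X) (r ⊗ₜ[ℤ] a) = r ⊗ₜ[ℤ] a
    rw [tzMap_tmul, R₀.map_id, A.map_id]
    rfl
  map_comp {X Y Z} f g := by
    refine AddCommGrpCat.hom_ext (tz_addHom_ext R₀ A fun r a => ?_)
    change tzMap R₀ A (f ≫ g) (r ⊗ₜ[ℤ] a) = tzMap R₀ A g (tzMap R₀ A f (r ⊗ₜ[ℤ] a))
    rw [tzMap_tmul, tzMap_tmul, tzMap_tmul, R₀.map_comp, A.map_comp]
    rfl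

noncomputable instance (A : Cᵒᵖ ⥤ AddCommGrpCat.{u}) (X : Cᵒᵖ) :
    Module (R₀.obj X) ((tzPre R₀ A).obj X) :=
  inferInstanceAs (Module (R₀.obj X) ((R₀.obj X) ⊗[ℤ] (A.obj X)))

lemma tzMap_smul (A : Cᵒᵖ ⥤ AddCommGrpCat.{u}) {X Y : Cᵒᵖ} (f : X ⟶ Y) (r : R₀.obj X)
    (m : TZ R₀ A X) :
    tzMap R₀ A f (r • m) = ((R₀.map f).hom r) • tzMap R₀ A f m := by
  induction m using TensorProduct.induction_on with
  | zero => rw [smul_zero, map_zero, smul_zero]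
  | tmul s a =>
    rw [TensorProduct.smul_tmul', tzMap_tmul, tzMap_tmul, TensorProduct.smul_tmul', smul_eq_mul,
      smul_eq_mul, map_mul]
  | add x y hx hy => rw [smul_add, map_add, map_add, smul_add, hx, hy]

lemma tzPre_map_smul (A : Cᵒᵖ ⥤ AddCommGrpCat.{u}) ⦃X Y : Cᵒᵖ⦄ (f : X ⟶ Y) (r : R₀.obj X)
    (m : (tzPre R₀ A).obj X) :
    (tzPre R₀ A).map f (r • m) = (R₀.map f r) • (tzPre R₀ A).map f m :=
  tzMap_smul R₀ A f r m

/-- extension of scalars of an abelian presheaf. -/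
noncomputable def extZ (A : Cᵒᵖ ⥤ AddCommGrpCat.{u}) : PresheafOfModules.{u} R₀ :=
  PresheafOfModules.ofPresheaf (tzPre R₀ A) (tzPre_map_smul R₀ A)


variable {R₀}

/-- the morphism `A ⟶ M.presheaf` attached to `extZ A ⟶ M`: `a ↦ φ(1 ⊗ a)`. -/
noncomputable def extZHomTo {A : Cᵒᵖ ⥤ AddCommGrpCat.{u}} {M : PresheafOfModules.{u} R₀}
    (φ : extZ R₀ A ⟶ M) : A ⟶ M.presheaf where
  app X := AddCommGrpCat.ofHom
    { toFun := fun a => (φ.app X).hom ((1 : R₀.obj X) ⊗ₜ[ℤ] a : TZ R₀ A X)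
      map_zero' := by rw [TensorProduct.tmul_zero]; exact map_zero _
      map_add' := fun a b => by rw [TensorProduct.tmul_add]; exact map_add _ _ _ }
  naturality {X Y} f := by
    ext a
    have h := PresheafOfModules.naturality_apply φ f ((1 : R₀.obj X) ⊗ₜ[ℤ] a : TZ R₀ A X)
    change (φ.app Y).hom (((1 : R₀.obj Y) ⊗ₜ[ℤ] ((A.map f).hom a)) : TZ R₀ A Y) =
      (M.map f).hom ((φ.app X).hom ((1 : R₀.obj X) ⊗ₜ[ℤ] a : TZ R₀ A X))
    rw [← h]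
    change _ = (φ.app Y).hom (tzMap R₀ A f ((1 : R₀.obj X) ⊗ₜ[ℤ] a))
    rw [tzMap_tmul, map_one]

/-- the component `A(X) →+ M(X)` of a morphism `A ⟶ M.presheaf`. -/
noncomputable def compHom {A : Cᵒᵖ ⥤ AddCommGrpCat.{u}} {M : PresheafOfModules.{u} R₀}
    (ψ : A ⟶ M.presheaf) (X : Cᵒᵖ) : A.obj X →+ M.obj X := (ψ.app X).hom

/-- the additive map `R₀(X) ⊗ A(X) → M(X)`, `r ⊗ a ↦ r • ψ a`. -/
noncomputable def extZLift {A : Cᵒᵖ ⥤ AddCommGrpCat.{u}} {M : PresheafOfModules.{u} R₀}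
    (ψ : A ⟶ M.presheaf) (X : Cᵒᵖ) : TZ R₀ A X →+ M.obj X :=
  (TensorProduct.lift
    ({ toFun := fun r =>
        { toFun := fun a => r • compHom ψ X a
          map_add' := fun a b => by rw [map_add, smul_add]
          map_smul' := fun n a => by
            rw [map_zsmul, RingHom.id_apply, smul_comm] }
       map_add' := fun r s => by
         ext a
         exact add_smul r s _
       map_smul' := fun n r => by
         ext a
         change (n • r) • compHom ψ X a = n • (r • compHom ψ X a)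
         rw [zsmul_eq_mul, mul_smul]
         exact (Int.cast_smul_eq_zsmul (R₀.obj X) n _) } :
      (R₀.obj X) →ₗ[ℤ] (A.obj X) →ₗ[ℤ] (M.obj X))).toAddMonoidHom

lemma extZLift_tmul {A : Cᵒᵖ ⥤ AddCommGrpCat.{u}} {M : PresheafOfModules.{u} R₀}
    (ψ : A ⟶ M.presheaf) (X : Cᵒᵖ) (r : R₀.obj X) (a : A.obj X) :
    extZLift ψ X (r ⊗ₜ[ℤ] a) = r • compHom ψ X a := rfl

lemma compHom_naturality {A : Cᵒᵖ ⥤ AddCommGrpCat.{u}} {M : PresheafOfModules.{u} R₀}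
    (ψ : A ⟶ M.presheaf) {X Y : Cᵒᵖ} (f : X ⟶ Y) (a : A.obj X) :
    compHom ψ Y ((A.map f).hom a) = (M.map f).hom (compHom ψ X a) :=
  ConcreteCategory.congr_hom (ψ.naturality f) a

lemma extZLift_smul {A : Cᵒᵖ ⥤ AddCommGrpCat.{u}} {M : PresheafOfModules.{u} R₀}
    (ψ : A ⟶ M.presheaf) (X : Cᵒᵖ) (r : R₀.obj X) (m : TZ R₀ A X) :
    extZLift ψ X (r • m) = r • extZLift ψ X m := by
  induction m using TensorProduct.induction_on with
  | zero => rw [smul_zero, map_zero, smul_zero]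
  | tmul s a =>
    rw [TensorProduct.smul_tmul', extZLift_tmul, extZLift_tmul, smul_eq_mul, mul_smul]
  | add x y hx hy => rw [smul_add, map_add, map_add, smul_add, hx, hy]

lemma extZLift_naturality {A : Cᵒᵖ ⥤ AddCommGrpCat.{u}} {M : PresheafOfModules.{u} R₀}
    (ψ : A ⟶ M.presheaf) {X Y : Cᵒᵖ} (f : X ⟶ Y) (m : TZ R₀ A X) :
    extZLift ψ Y (tzMap R₀ A f m) = (M.map f).hom (extZLift ψ X m) := by
  induction m using TensorProduct.induction_on with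
  | zero =>
    rw [map_zero, map_zero]
    exact (map_zero (M.map f).hom).symm
  | tmul s a =>
    rw [tzMap_tmul, extZLift_tmul, extZLift_tmul, compHom_naturality]
    exact (PresheafOfModules.map_smul M f s (compHom ψ X a)).symm
  | add x y hx hy =>
    rw [map_add, map_add, hx, hy, map_add]
    exact (map_add (M.map f).hom _ _).symm

/-- the morphism `extZ A ⟶ M` attached to `A ⟶ M.presheaf`. -/
noncomputable def extZDesc {A : Cᵒᵖ ⥤ AddCommGrpCat.{u}} {M : PresheafOfModules.{u} R₀}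
    (ψ : A ⟶ M.presheaf) : extZ R₀ A ⟶ M :=
  PresheafOfModules.homMk (M₁ := extZ R₀ A)
    { app := fun X => AddCommGrpCat.ofHom (extZLift ψ X)
      naturality := fun {X Y} f => by
        ext m
        exact extZLift_naturality ψ f m }
    (fun X r m => extZLift_smul ψ X r m)

lemma extZDesc_app_tmul {A : Cᵒᵖ ⥤ AddCommGrpCat.{u}} {M : PresheafOfModules.{u} R₀}
    (ψ : A ⟶ M.presheaf) (X : Cᵒᵖ) (r : R₀.obj X) (a : A.obj X) :
    ((extZDesc ψ).app X).hom (r ⊗ₜ[ℤ] a : TZ R₀ A X) = r • compHom ψ X a := rfl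

lemma extZHomTo_app {A : Cᵒᵖ ⥤ AddCommGrpCat.{u}} {M : PresheafOfModules.{u} R₀}
    (φ : extZ R₀ A ⟶ M) (X : Cᵒᵖ) (a : A.obj X) :
    compHom (extZHomTo φ) X a = (φ.app X).hom ((1 : R₀.obj X) ⊗ₜ[ℤ] a : TZ R₀ A X) := rfl

/-- `Hom(R ⊗_ℤ A, M) ≃ Hom(A, M)`. -/
noncomputable def extZHomEquiv (A : Cᵒᵖ ⥤ AddCommGrpCat.{u}) (M : PresheafOfModules.{u} R₀) :
    (extZ R₀ A ⟶ M) ≃ (A ⟶ M.presheaf) where
  toFun := extZHomTo
  invFun := extZDesc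
  left_inv φ := by
    ext X m
    have key : (show TZ R₀ A X →+ M.obj X from ((extZDesc (extZHomTo φ)).app X).hom.toAddMonoidHom) =
        (show TZ R₀ A X →+ M.obj X from (φ.app X).hom.toAddMonoidHom) := by
      refine tz_addHom_ext R₀ A (fun r a => ?_)
      change ((extZDesc (extZHomTo φ)).app X).hom (r ⊗ₜ[ℤ] a : TZ R₀ A X) =
        (φ.app X).hom (r ⊗ₜ[ℤ] a : TZ R₀ A X)
      rw [extZDesc_app_tmul, extZHomTo_app]
      have h : (r ⊗ₜ[ℤ] a : TZ R₀ A X) = r • ((1 : R₀.obj X) ⊗ₜ[ℤ] a : TZ R₀ A X) := by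
        rw [TensorProduct.smul_tmul', smul_eq_mul, mul_one]
      rw [h]
      exact ((φ.app X).hom.map_smul r _).symm
    exact DFunLike.congr_fun key m
  right_inv ψ := by
    ext X a
    change compHom (extZHomTo (extZDesc ψ)) X a = compHom ψ X a
    rw [extZHomTo_app, extZDesc_app_tmul, one_smul]

lemma extZHomEquiv_naturality (A : Cᵒᵖ ⥤ AddCommGrpCat.{u}) {M M' : PresheafOfModules.{u} R₀}
    (φ : extZ R₀ A ⟶ M) (g : M ⟶ M') :
    extZHomEquiv A M' (φ ≫ g) = extZHomEquiv A M φ ≫ (PresheafOfModules.toPresheaf R₀).map g := rfl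

/-- functoriality of `extZ`. -/
noncomputable def extZMap {A B : Cᵒᵖ ⥤ AddCommGrpCat.{u}} (f : A ⟶ B) : extZ R₀ A ⟶ extZ R₀ B :=
  (extZHomEquiv A (extZ R₀ B)).symm (f ≫ extZHomEquiv B (extZ R₀ B) (𝟙 _))

lemma extZMap_app_tmul {A B : Cᵒᵖ ⥤ AddCommGrpCat.{u}} (f : A ⟶ B) (X : Cᵒᵖ) (r : R₀.obj X)
    (a : A.obj X) :
    ((extZMap (R₀ := R₀) f).app X).hom (r ⊗ₜ[ℤ] a : TZ R₀ A X) =
      (r ⊗ₜ[ℤ] ((f.app X).hom a) : TZ R₀ B X) := by
  change r • ((1 : R₀.obj X) ⊗ₜ[ℤ] ((f.app X).hom a) : TZ R₀ B X) = _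
  rw [TensorProduct.smul_tmul', smul_eq_mul, mul_one]

end Groth.Agent.LD.KT
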