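import Mathlib
import Groth.Agent.Lib.Lead.KT.ExtZ

/-! # The left adjoint `A ↦ R ⊗_ℤ A` of the forgetful functor from sheaves of modules
to abelian sheaves. -/

set_option autoImplicit false
universe u
open CategoryTheory Opposite TensorProduct Limits

namespace Groth.Agent.LD.KT

variable {C : Type u} [SmallCategory C] {J : GrothendieckTopology C} (R : Sheaf J RingCat.{u})

/-- `R ⊗_ℤ A` for an abelian sheaf `A`. -/
noncomputable def Lobj (A : Sheaf J AddCommGrpCat.{u}) : SheafOfModules.{u} R :=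
  (PresheafOfModules.sheafification (𝟙 R.obj)).obj (extZ R.obj A.obj)

/-- the defining bijection. -/
noncomputable def Le (A : Sheaf J AddCommGrpCat.{u}) (M : SheafOfModules.{u} R) :
    (Lobj R A ⟶ M) ≃ (A ⟶ (SheafOfModules.toSheaf R).obj M) :=
  ((PresheafOfModules.sheafificationAdjunction (𝟙 R.obj)).homEquiv _ _).trans
    ((extZHomEquiv A.obj _).trans
      ((fullyFaithfulSheafToPresheaf J AddCommGrpCat.{u}).homEquiv
        (X := A) (Y := (SheafOfModules.toSheaf R).obj M)).symm)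

lemma Le_naturality (A : Sheaf J AddCommGrpCat.{u}) {M M' : SheafOfModules.{u} R}
    (h : Lobj R A ⟶ M) (g : M ⟶ M') :
    Le R A M' (h ≫ g) = Le R A M h ≫ (SheafOfModules.toSheaf R).map g := by
  apply (fullyFaithfulSheafToPresheaf J AddCommGrpCat.{u}).map_injective
  rfl

/-- the functor `A ↦ R ⊗_ℤ A`. -/
noncomputable def L : Sheaf J AddCommGrpCat.{u} ⥤ SheafOfModules.{u} R :=
  Adjunction.leftAdjointOfEquiv (G := SheafOfModules.toSheaf R) (Le R)
    (fun A M M' g h => Le_naturality R A h g)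

/-- `L ⊣ toSheaf`. -/
noncomputable def Ladj : L R ⊣ SheafOfModules.toSheaf R :=
  Adjunction.adjunctionOfEquivLeft (G := SheafOfModules.toSheaf R) (Le R)
    (fun A M M' g h => Le_naturality R A h g)


lemma extZHomEquiv_naturality_left {R₀ : Cᵒᵖ ⥤ RingCat.{u}} {A B : Cᵒᵖ ⥤ AddCommGrpCat.{u}}
    (f : A ⟶ B) {M : PresheafOfModules.{u} R₀} (φ : extZ R₀ B ⟶ M) :
    extZHomEquiv A M (extZMap f ≫ φ) = f ≫ extZHomEquiv B M φ := by
  ext X a
  change ((extZMap f ≫ φ).app X).hom ((1 : R₀.obj X) ⊗ₜ[ℤ] a : TZ R₀ A X) =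
    (φ.app X).hom ((1 : R₀.obj X) ⊗ₜ[ℤ] ((f.app X).hom a) : TZ R₀ B X)
  rw [← extZMap_app_tmul f X 1 a]
  rfl

/-- `L` on morphisms is the sheafification of `r ⊗ a ↦ r ⊗ f a`. -/
lemma L_map {A B : Sheaf J AddCommGrpCat.{u}} (f : A ⟶ B) :
    (L R).map f = (PresheafOfModules.sheafification (𝟙 R.obj)).map (extZMap f.hom) := by
  change (Le R A (Lobj R B)).symm (f ≫ Le R B (Lobj R B) (𝟙 _)) = _
  rw [Equiv.symm_apply_eq]
  apply (fullyFaithfulSheafToPresheaf J AddCommGrpCat.{u}).map_injective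
  symm
  change extZHomEquiv A.obj _ ((PresheafOfModules.sheafificationAdjunction (𝟙 R.obj)).homEquiv _ _
      ((PresheafOfModules.sheafification (𝟙 R.obj)).map (extZMap f.hom))) =
    f.hom ≫ extZHomEquiv B.obj _ ((PresheafOfModules.sheafificationAdjunction (𝟙 R.obj)).homEquiv _ _
      (𝟙 _))
  rw [← extZHomEquiv_naturality_left, ← Adjunction.homEquiv_naturality_left, Category.comp_id]

end Groth.Agent.LD.KT
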