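import Mathlib

/-! # Left effacement of `Ext` classes by epimorphisms, and a vanishing principle. -/

set_option autoImplicit false
universe w v u
open CategoryTheory Limits Abelian

namespace Groth.Agent.LD.KT

variable {A : Type u} [Category.{v} A] [Abelian A] [HasExt.{w} A] [EnoughInjectives A]

/-- every `Ext` class of positive degree is killed by precomposition with some epimorphism. -/
theorem exists_epi_comp_eq_zero (n : ℕ) : ∀ {X Y : A} (x : Ext.{w} X Y (n + 1)),
    ∃ (X' : A) (p : X' ⟶ X), Epi p ∧ (Ext.mk₀ p).comp x (zero_add _) = 0 := by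
  induction n with
  | zero =>
    intro X Y x
    let ι := Injective.ι Y
    let S : ShortComplex A := ShortComplex.mk ι (cokernel.π ι) (cokernel.condition ι)
    have hS : S.ShortExact :=
      { exact := ShortComplex.exact_of_g_is_cokernel _ (cokernelIsCokernel ι)
        mono_f := inferInstanceAs (Mono ι)
        epi_g := inferInstanceAs (Epi (cokernel.π ι)) }
    obtain ⟨y, hy⟩ := Ext.covariant_sequence_exact₁ X hS x
      (Ext.eq_zero_of_injective _) (rfl : 0 + 1 = 1)
    let φ : X ⟶ S.X₃ := Ext.addEquiv₀ y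
    have hφ : Ext.mk₀ φ = y := Ext.mk₀_addEquiv₀_apply y
    refine ⟨pullback φ S.g, pullback.fst φ S.g, inferInstance, ?_⟩
    rw [← hy, ← hφ, ← Ext.comp_assoc_of_second_deg_zero, Ext.mk₀_comp_mk₀, pullback.condition,
      ← Ext.mk₀_comp_mk₀, Ext.comp_assoc_of_second_deg_zero, hS.comp_extClass, Ext.comp_zero]
  | succ n ih =>
    intro X Y x
    let ι := Injective.ι Y
    let S : ShortComplex A := ShortComplex.mk ι (cokernel.π ι) (cokernel.condition ι)
    have hS : S.ShortExact :=
      { exact := ShortComplex.exact_of_g_is_cokernel _ (cokernelIsCokernel ι)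
        mono_f := inferInstanceAs (Mono ι)
        epi_g := inferInstanceAs (Epi (cokernel.π ι)) }
    obtain ⟨y, hy⟩ := Ext.covariant_sequence_exact₁ X hS x
      (Ext.eq_zero_of_injective _) (rfl : (n + 1) + 1 = n + 1 + 1)
    obtain ⟨X', p, hp, hpy⟩ := ih y
    refine ⟨X', p, hp, ?_⟩
    rw [← hy, ← Ext.comp_assoc (Ext.mk₀ p) y hS.extClass (zero_add _) rfl (by lia), hpy,
      Ext.zero_comp]

end Groth.Agent.LD.KT
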