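import Mathlib
import Groth.Agent.Lib.Lead.KT.Efface
import Groth.Agent.Lib.Lead.CechExt.ExtOne

/-! # A vanishing principle for `Ext(F, Ψ I)` with `I` injective and `F` in a class of "flat" objects. -/

set_option autoImplicit false
universe w v v' u u'
open CategoryTheory Limits Abelian

namespace Groth.Agent.LD.KT

variable {A : Type u} [Category.{v} A] [Abelian A] [HasExt.{w} A] [EnoughInjectives A]
  {B : Type u'} [Category.{v'} B] [Abelian B]
  (Φ : A ⥤ B) (Ψ : B ⥤ A) (adj : Φ ⊣ Ψ) (T : A → Prop)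
  (hT1 : ∀ X : A, ∃ (X' : A) (p : X' ⟶ X), T X' ∧ Epi p)
  (hT2 : ∀ (S : ShortComplex A), S.ShortExact → T S.X₂ → T S.X₃ → T S.X₁)
  (hΦ : ∀ (S : ShortComplex A), S.ShortExact → T S.X₃ → Mono (Φ.map S.f))

include adj hΦ in
/-- monomorphisms out of `Ψ I` with cokernel in `T` split. -/
theorem exists_retraction (I : B) [Injective I] {X₂ X₃ : A} (f : Ψ.obj I ⟶ X₂) (g : X₂ ⟶ X₃)
    (zero : f ≫ g = 0) (hS : (ShortComplex.mk f g zero).ShortExact)
    (h3 : T X₃) : ∃ r : X₂ ⟶ Ψ.obj I, f ≫ r = 𝟙 _ := by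
  have : Mono (Φ.map f) := hΦ _ hS h3
  let c : Φ.obj (Ψ.obj I) ⟶ I := adj.counit.app I
  let r' : Φ.obj X₂ ⟶ I := Injective.factorThru c (Φ.map f)
  have hr' : Φ.map f ≫ r' = c := Injective.comp_factorThru c (Φ.map f)
  refine ⟨adj.homEquiv _ _ r', ?_⟩
  rw [← adj.homEquiv_naturality_left, hr']
  change adj.homEquiv _ _ (adj.counit.app I) = _
  rw [← adj.homEquiv_symm_id]
  exact (adj.homEquiv (Ψ.obj I) I).apply_symm_apply _

include adj hT1 hT2 hΦ in
theorem subsingleton_ext_of_adj (I : B) [Injective I] (n : ℕ) :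
    ∀ (F : A), T F → Subsingleton (Ext.{w} F (Ψ.obj I) (n + 1)) := by
  induction n with
  | zero =>
    intro F hF
    refine ⟨fun x y => ?_⟩
    suffices h : ∀ x : Ext.{w} F (Ψ.obj I) 1, x = 0 by rw [h x, h y]
    intro x
    let ι := Injective.ι (Ψ.obj I)
    let S : ShortComplex A := ShortComplex.mk ι (cokernel.π ι) (cokernel.condition ι)
    have hS : S.ShortExact :=
      { exact := ShortComplex.exact_of_g_is_cokernel _ (cokernelIsCokernel ι)
        mono_f := inferInstanceAs (Mono ι)
        epi_g := inferInstanceAs (Epi (cokernel.π ι)) }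
    obtain ⟨φ, rfl⟩ := Groth.Agent.LD.CE.delta0P_surjective hS F
      (Ext.subsingleton_of_injective _ _ 0) x
    -- it suffices to lift `φ` along `S.g`
    suffices h : ∃ ψ : F ⟶ S.X₂, ψ ≫ S.g = φ by
      obtain ⟨ψ, rfl⟩ := h
      have : ψ ≫ S.g ∈ (Groth.Agent.LD.CE.delta0P hS F).ker := by
        rw [Groth.Agent.LD.CE.delta0P_ker]
        exact ⟨ψ, rfl⟩
      exact this
    -- the pulled back extension
    let P := pullback φ S.g
    let fst : P ⟶ F := pullback.fst φ S.g
    let snd : P ⟶ S.X₂ := pullback.snd φ S.g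
    have hc : fst ≫ φ = snd ≫ S.g := pullback.condition
    let j : Ψ.obj I ⟶ P := pullback.lift 0 ι (by rw [zero_comp]; exact (cokernel.condition ι).symm)
    have hj1 : j ≫ fst = 0 := pullback.lift_fst _ _ _
    have hj2 : j ≫ snd = ι := pullback.lift_snd _ _ _
    have : Mono j := mono_of_mono_fac hj2
    have : Epi fst := inferInstanceAs (Epi (pullback.fst φ S.g))
    let S' : ShortComplex A := ShortComplex.mk j fst hj1
    have hS' : S'.ShortExact :=
      { exact := by
          apply ShortComplex.exact_of_f_is_kernel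
          refine KernelFork.IsLimit.ofι _ _
            (fun {W} t ht => hS.exact.lift (t ≫ snd) (by
              rw [Category.assoc, ← hc, reassoc_of% ht, zero_comp]))
            (fun {W} t ht => ?_) (fun {W} t ht m hm => ?_)
          · apply pullback.hom_ext
            · rw [Category.assoc]
              change _ ≫ j ≫ fst = t ≫ fst
              rw [hj1, comp_zero, ht]
            · rw [Category.assoc]
              change _ ≫ j ≫ snd = t ≫ snd
              rw [hj2]
              exact hS.exact.lift_f _ _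
          · have : Mono S.f := hS.mono_f
            rw [← cancel_mono S.f]
            change m ≫ ι = _
            rw [hS.exact.lift_f, ← hm, Category.assoc]
            change m ≫ ι = m ≫ j ≫ snd
            rw [hj2]
        mono_f := inferInstanceAs (Mono j)
        epi_g := inferInstanceAs (Epi fst) }
    obtain ⟨r, hr⟩ := exists_retraction Φ Ψ adj T hΦ I j fst hj1 hS' hF
    have hk : S'.f ≫ (snd - r ≫ ι) = 0 := by
      change j ≫ (snd - r ≫ ι) = 0
      rw [Preadditive.comp_sub, hj2, ← Category.assoc]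
      change ι - (S'.f ≫ r) ≫ ι = 0
      rw [hr, Category.id_comp, sub_self]
    have : Epi S'.g := hS'.epi_g
    refine ⟨hS'.exact.desc _ hk, ?_⟩
    rw [← cancel_epi S'.g, ← Category.assoc, hS'.exact.g_desc, Preadditive.sub_comp]
    change snd ≫ S.g - (r ≫ ι) ≫ cokernel.π ι = fst ≫ φ
    rw [Category.assoc, cokernel.condition, comp_zero, sub_zero, hc]
  | succ n ih =>
    intro F hF
    refine ⟨fun x y => ?_⟩
    suffices h : ∀ x : Ext.{w} F (Ψ.obj I) (n + 1 + 1), x = 0 by rw [h x, h y]
    intro x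
    obtain ⟨X', p, hp, hpx⟩ := exists_epi_comp_eq_zero (n + 1) x
    obtain ⟨X'', p', hX'', hp'⟩ := hT1 X'
    let q : X'' ⟶ F := p' ≫ p
    have hq : Epi q := epi_comp _ _
    have hqx : (Ext.mk₀ q).comp x (zero_add _) = 0 := by
      rw [← Ext.mk₀_comp_mk₀, Ext.comp_assoc_of_second_deg_zero, hpx, Ext.comp_zero]
    let S' : ShortComplex A := ShortComplex.mk (kernel.ι q) q (kernel.condition q)
    have hS' : S'.ShortExact :=
      { exact := ShortComplex.exact_of_f_is_kernel _ (kernelIsKernel q)
        mono_f := inferInstanceAs (Mono (kernel.ι q))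
        epi_g := hq }
    obtain ⟨x₁, hx₁⟩ := Ext.contravariant_sequence_exact₃ hS' _ x hqx
      (by lia : 1 + (n + 1) = n + 1 + 1)
    have := ih (kernel q) (hT2 S' hS' hX'' hF)
    rw [← hx₁, Subsingleton.elim x₁ 0, Ext.comp_zero]

end Groth.Agent.LD.KT
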