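import Mathlib

/-! # Purity: an injection of modules with flat cokernel stays injective after tensoring
with anything. -/

set_option autoImplicit false
universe u v w w'
open TensorProduct LinearMap

namespace Groth.Agent.LD.KT

variable {R : Type u} [CommRing R] {A B Q : Type v} [AddCommGroup A] [AddCommGroup B]
  [AddCommGroup Q] [Module R A] [Module R B] [Module R Q]

theorem lTensor_injective_aux {N : Type w} [AddCommGroup N] [Module R N]
    {F : Type w'} [AddCommGroup F] [Module R F] {K : Type w'} [AddCommGroup K] [Module R K]
    (π : F →ₗ[R] N) (ι : K →ₗ[R] F) (hπ : Function.Surjective π) (hι : Function.Injective ι)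
    (hιπ : Function.Exact ι π) [Module.Flat R F]
    (f : A →ₗ[R] B) (g : B →ₗ[R] Q) (hf : Function.Injective f) (hg : Function.Surjective g)
    (hfg : Function.Exact f g) [Module.Flat R Q] :
    Function.Injective (lTensor N f) := by
  have ha : Function.Surjective (rTensor A π) := rTensor_surjective A hπ
  have hb : Function.Exact (rTensor B ι) (rTensor B π) := rTensor_exact B hιπ hπ
  have hc : Function.Injective (lTensor F f) := Module.Flat.lTensor_preserves_injective_linearMap f hf
  have hd : Function.Injective (rTensor Q ι) :=
    Module.Flat.rTensor_preserves_injective_linearMap ι hι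
  have he : Function.Exact (lTensor K f) (lTensor K g) := lTensor_exact K hfg hg
  rw [injective_iff_map_eq_zero]
  intro x hx
  obtain ⟨y, rfl⟩ := ha x
  have h1 : rTensor B π (lTensor F f y) = 0 := by
    rw [← LinearMap.comp_apply, rTensor_comp_lTensor, ← lTensor_comp_rTensor, LinearMap.comp_apply]
    exact hx
  obtain ⟨z, hz⟩ := (hb _).1 h1
  have h2 : rTensor Q ι (lTensor K g z) = 0 := by
    rw [← LinearMap.comp_apply, rTensor_comp_lTensor, ← lTensor_comp_rTensor, LinearMap.comp_apply,
      hz, ← LinearMap.comp_apply, ← lTensor_comp]
    have : g.comp f = 0 := LinearMap.ext fun a => hfg.apply_apply_eq_zero a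
    rw [this, lTensor_zero, LinearMap.zero_apply]
  have h3 : lTensor K g z = 0 := hd (by rw [h2, map_zero])
  obtain ⟨w, hw⟩ := (he _).1 h3
  have h4 : lTensor F f (rTensor A ι w) = lTensor F f y := by
    rw [← LinearMap.comp_apply, lTensor_comp_rTensor, ← rTensor_comp_lTensor, LinearMap.comp_apply,
      hw, hz]
  have h5 : rTensor A ι w = y := hc h4
  rw [← h5, ← LinearMap.comp_apply, ← rTensor_comp]
  have : π.comp ι = 0 := LinearMap.ext fun k => hιπ.apply_apply_eq_zero k
  rw [this, rTensor_zero, LinearMap.zero_apply]

theorem lTensor_injective_of_flat_coker (N : Type w) [AddCommGroup N] [Module R N]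
    (f : A →ₗ[R] B) (g : B →ₗ[R] Q) (hf : Function.Injective f) (hg : Function.Surjective g)
    (hfg : Function.Exact f g) [Module.Flat R Q] :
    Function.Injective (lTensor N f) := by
  have hπ : Function.Surjective (Finsupp.linearCombination R (id : N → N)) := fun n =>
    ⟨Finsupp.single n 1, by rw [Finsupp.linearCombination_single, one_smul]; rfl⟩
  exact lTensor_injective_aux (F := N →₀ R)
    (K := LinearMap.ker (Finsupp.linearCombination R (id : N → N)))
    (Finsupp.linearCombination R (id : N → N))
    (LinearMap.ker (Finsupp.linearCombination R (id : N → N))).subtype hπ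
    (Submodule.subtype_injective _) (LinearMap.exact_subtype_ker_map _) f g hf hg hfg

end Groth.Agent.LD.KT
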