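import Mathlib
import Groth.Prelude.Def_CohCx
import Groth.Agent.Lib.Lead.KT.ExtZSh
import Groth.Agent.Lib.Lead.KT.Pure
import Groth.Agent.Lib.Lead.KT.Principle
import Groth.Agent.Lib.Lead.CechExt.Free
import Groth.Agent.Lib.Lead.Cech.Sheaf

/-! # Injective sheaves of modules have totally acyclic underlying abelian sheaves. -/

set_option autoImplicit false
universe u
open CategoryTheory Opposite TensorProduct Limits Abelian

namespace Groth.Agent.LD.KT

theorem freeAb_tf (X : Type*) (n : ℕ) (hn : n ≠ 0) (x : FreeAbelianGroup X) (h : n • x = 0) :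
    x = 0 := by
  apply (FreeAbelianGroup.equivFinsupp X).injective
  rw [map_zero]
  have h2 : n • (FreeAbelianGroup.equivFinsupp X x) = 0 := by rw [← map_nsmul, h, map_zero]
  ext a
  have := DFunLike.congr_fun h2 a
  simp only [Finsupp.coe_smul, Pi.smul_apply, Finsupp.coe_zero, Pi.zero_apply] at this
  rcases mul_eq_zero.1 this with h3 | h3
  · exact absurd (by exact_mod_cast h3) hn
  · exact h3

variable {C : Type u} [SmallCategory C] {J : GrothendieckTopology C}

/-- sectionwise torsion-free abelian sheaves. -/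
def IsTF (F : Sheaf J AddCommGrpCat.{u}) : Prop :=
  ∀ (W : C) (n : ℕ) (x : F.obj.obj (op W)), n ≠ 0 → n • x = 0 → x = 0

/-- a subsheaf of a torsion-free sheaf is torsion-free. -/
lemma isTF_of_mono {F G : Sheaf J AddCommGrpCat.{u}} (f : F ⟶ G) [Mono f] (hG : IsTF G) :
    IsTF F := by
  intro W n x hn hx
  apply Groth.Agent.LD.CH.app_injective_of_mono f W
  rw [map_zero]
  apply hG W n _ hn
  rw [← map_nsmul, hx, map_zero]

/-- sheafification of a sectionwise torsion-free presheaf is torsion-free. -/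
lemma isTF_sheafify (P : Cᵒᵖ ⥤ AddCommGrpCat.{u})
    (hP : ∀ (W : Cᵒᵖ) (n : ℕ) (x : P.obj W), n ≠ 0 → n • x = 0 → x = 0) :
    IsTF ((presheafToSheaf J AddCommGrpCat.{u}).obj P) := by
  intro W n x hn hx
  have h1 : Mono (n • 𝟙 P) := by
    rw [NatTrans.mono_iff_mono_app]
    intro V
    rw [AddCommGrpCat.mono_iff_injective]
    rw [injective_iff_map_eq_zero]
    intro y hy
    exact hP V n y hn hy
  have h2 : Mono ((presheafToSheaf J AddCommGrpCat.{u}).map (n • 𝟙 P)) := inferInstance
  rw [Functor.map_nsmul, CategoryTheory.Functor.map_id] at h2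
  have := Groth.Agent.LD.CH.app_injective_of_mono
    (n • 𝟙 ((presheafToSheaf J AddCommGrpCat.{u}).obj P)) W
  apply this
  rw [map_zero]
  exact hx

lemma isTF_ZR (P : Cᵒᵖ ⥤ Type u) : IsTF (Groth.Agent.LD.CE.ZR J P) :=
  isTF_sheafify _ (fun W n x hn hx => freeAb_tf (P.obj W) n hn x hx)

/-- every abelian sheaf is a quotient of a torsion-free one. -/
lemma exists_tf_epi (F : Sheaf J AddCommGrpCat.{u}) :
    ∃ (F' : Sheaf J AddCommGrpCat.{u}) (p : F' ⟶ F), IsTF F' ∧ Epi p := by
  let P : Cᵒᵖ ⥤ Type u := F.obj ⋙ forget AddCommGrpCat.{u}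
  let p : Groth.Agent.LD.CE.ZR J P ⟶ F := (Groth.Agent.LD.CE.homEquivR P F).symm (𝟙 _)
  refine ⟨_, p, isTF_ZR P, ⟨fun {G} g h hgh => ?_⟩⟩
  have h1 := Groth.Agent.LD.CE.homEquivR_comp P p g
  have h2 := Groth.Agent.LD.CE.homEquivR_comp P p h
  rw [hgh, h2] at h1
  have hp : Groth.Agent.LD.CE.homEquivR P F p = 𝟙 _ := Equiv.apply_symm_apply _ _
  rw [hp, Category.id_comp, Category.id_comp] at h1
  apply Sheaf.hom_ext
  ext W x
  exact (congrFun (congrArg (fun t => t.app W) h1) x).symm


/-- torsion-free abelian groups are flat. -/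
lemma flat_of_tf (Q : Type u) [AddCommGroup Q]
    (h : ∀ (n : ℕ) (q : Q), n ≠ 0 → n • q = 0 → q = 0) : Module.Flat ℤ Q := by
  rw [Module.Flat.flat_iff_torsion_eq_bot_of_isBezout, eq_bot_iff]
  rintro q ⟨⟨a, ha⟩, haq⟩
  change a • q = 0 at haq
  rw [Submodule.mem_bot]
  have ha0 : a ≠ 0 := nonZeroDivisors.ne_zero ha
  apply h a.natAbs q (Int.natAbs_ne_zero.2 ha0)
  rcases Int.natAbs_eq a with h1 | h1
  · rw [← natCast_zsmul, ← h1, haq]
  · have : (a.natAbs : ℤ) = -a := (neg_eq_iff_eq_neg.2 h1).symm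
    rw [← natCast_zsmul, this, neg_smul, haq, neg_zero]

variable (R : Sheaf J RingCat.{u})

/-- `L` preserves monomorphisms with torsion-free cokernel. -/
theorem mono_L_map (S : ShortComplex (Sheaf J AddCommGrpCat.{u})) (hS : S.ShortExact)
    (h3 : IsTF S.X₃) : Mono ((L R).map S.f) := by
  rw [L_map]
  have : Mono (extZMap (R₀ := R.obj) S.f.hom) := by
    apply PresheafOfModules.mono_of_injective
    intro W
    have := hS.mono_f
    -- sections over `W`
    let A := S.X₁.obj.obj W
    let B := S.X₂.obj.obj W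
    let f : A →ₗ[ℤ] B := (S.f.hom.app W).hom.toIntLinearMap
    have hf : Function.Injective f := Groth.Agent.LD.CH.app_injective_of_mono S.f W.unop
    let Q := B ⧸ LinearMap.range f
    have hQ : Module.Flat ℤ Q := by
      apply flat_of_tf
      intro n q hn hq
      obtain ⟨b, rfl⟩ := Submodule.mkQ_surjective _ q
      rw [← map_nsmul, Submodule.mkQ_apply, Submodule.Quotient.mk_eq_zero] at hq
      obtain ⟨a, ha⟩ := hq
      -- `n • g b = 0`, hence `g b = 0`
      have h1 : (S.g.hom.app W).hom (n • b) = 0 := by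
        rw [← ha]
        exact ConcreteCategory.congr_hom
          (congrArg (fun t => t.hom.app W) S.zero) a
      rw [map_nsmul] at h1
      have h2 := h3 W.unop n _ hn h1
      obtain ⟨a', ha'⟩ := Groth.Agent.LD.CH.app_exact hS W.unop b h2
      rw [Submodule.mkQ_apply, Submodule.Quotient.mk_eq_zero]
      exact ⟨a', ha'⟩
    have key := lTensor_injective_of_flat_coker (R := ℤ) (R.obj.obj W) f (LinearMap.range f).mkQ hf
      (Submodule.mkQ_surjective _) (LinearMap.exact_map_mkQ_range f)
    intro x y hxy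
    apply key
    have hfun' : (show TZ R.obj S.X₁.obj W →+ TZ R.obj S.X₂.obj W from
          ((extZMap (R₀ := R.obj) S.f.hom).app W).hom.toAddMonoidHom) =
        (LinearMap.lTensor (R.obj.obj W) f).toAddMonoidHom :=
      tz_addHom_ext R.obj S.X₁.obj (fun r a => extZMap_app_tmul S.f.hom W r a)
    have hfun : ∀ z : TZ R.obj S.X₁.obj W,
        ((extZMap (R₀ := R.obj) S.f.hom).app W).hom z = LinearMap.lTensor (R.obj.obj W) f z :=
      fun z => DFunLike.congr_fun hfun' z
    rw [← hfun x, ← hfun y]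
    exact hxy
  have h2 : PreservesFiniteLimits (PresheafOfModules.sheafification.{u} (𝟙 R.obj)) := inferInstance
  exact (PresheafOfModules.sheafification.{u} (𝟙 R.obj)).map_mono _


/-- **Key theorem.** For an injective sheaf of modules `I` and a torsion-free abelian sheaf `F`,
`Ext^{n+1}(F, I_ab) = 0`. -/
theorem subsingleton_ext_toSheaf_of_injective (I : SheafOfModules.{u} R) [Injective I]
    (F : Sheaf J AddCommGrpCat.{u}) (hF : IsTF F) (n : ℕ) :
    Subsingleton (Ext.{u} F ((SheafOfModules.toSheaf R).obj I) (n + 1)) :=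
  subsingleton_ext_of_adj (L R) (SheafOfModules.toSheaf R) (Ladj R) IsTF
    exists_tf_epi
    (fun S hS h2 _ => by
      have := hS.mono_f
      exact isTF_of_mono S.f h2)
    (fun S hS h3 => mono_L_map R S hS h3) I n F hF

/-- the underlying abelian sheaf of an injective sheaf of modules is totally acyclic. -/
theorem isTotallyAcyclic_toSheaf_of_injective (I : SheafOfModules.{u} R) [Injective I] :
    CohCx.IsTotallyAcyclic ((SheafOfModules.toSheaf R).obj I) :=
  fun K p => subsingleton_ext_toSheaf_of_injective R I _ (isTF_ZR K.obj) p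

end Groth.Agent.LD.KT
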