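import Mathlib
import Groth.Agent.Lib.Lead.GSS.Degen
import Groth.Agent.Lib.Lead.KT.Core
import Groth.Agent.Lib.Lead.MS.PushLeftAdj

/-! # Ext groups of modules versus Ext groups of underlying abelian sheaves. -/

universe u
open CategoryTheory Limits Opposite Abelian

namespace Groth.Agent.LD.KT
open Groth.Agent.LD.GSS Groth.Agent.LD.SC Groth.Agent.LD.CE

section General

variable {A' : Type*} [Category A'] [Preadditive A']
  {B : Type*} [Category B] [Preadditive B] (T : A' ⥤ B) [T.Additive]

/-- a natural bijection `Hom(P', M) ≃ Hom(P, T M)` is automatically additive. -/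
noncomputable def homFIsoOfEquiv {P : B} {P' : A'} (e : ∀ M : A', (P' ⟶ M) ≃ (P ⟶ T.obj M))
    (he : ∀ (M M' : A') (ψ : P' ⟶ M) (g : M ⟶ M'), e M' (ψ ≫ g) = e M ψ ≫ T.map g) :
    T ⋙ preadditiveCoyoneda.obj (op P) ≅ preadditiveCoyoneda.obj (op P') :=
  have hadd : ∀ (M : A') (f g : P' ⟶ M), e M (f + g) = e M f + e M g := fun M f g => by
    have h1 : ∀ f : P' ⟶ M, e M f = e P' (𝟙 P') ≫ T.map f := fun f => by
      rw [← he, Category.id_comp]
    rw [h1 (f + g), h1 f, h1 g, T.map_add, Preadditive.comp_add]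
  NatIso.ofComponents (fun M => (AddEquiv.toAddCommGrpIso
    { (e M) with map_add' := hadd M }).symm)
    (fun {M M'} g => by
      ext ψ
      apply (e M').injective
      change e M' ((e M').symm (ψ ≫ T.map g)) = e M' ((e M).symm ψ ≫ g)
      rw [he]
      simp)

end General

end Groth.Agent.LD.KT

namespace Groth.Agent.LD.KT
open Groth.Agent.LD.GSS Groth.Agent.LD.SC Groth.Agent.LD.CE

variable {C : Type u} [SmallCategory C] (J : GrothendieckTopology C)

/-- natural transformations from the constant presheaf `ℤ` are sections. -/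
noncomputable def constHomEquiv (G : Cᵒᵖ ⥤ AddCommGrpCat.{u}) :
    ((Functor.const Cᵒᵖ).obj (AddCommGrpCat.of (ULift.{u} ℤ)) ⟶ G) ≃
      (G ⋙ forget _).sections where
  toFun α := ⟨fun X => AddCommGrpCat.uliftZMultiplesAddEquiv _ (α.app X), fun {X Y} f => by
    have := α.naturality f
    simp only [Functor.const_obj_obj, Functor.const_obj_map, Category.id_comp] at this
    beta_reduce
    rw [this]
    rfl⟩
  invFun s :=
    { app := fun X => (AddCommGrpCat.uliftZMultiplesAddEquiv _).symm (s.1 X)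
      naturality := fun {X Y} f => by
        simp only [Functor.const_obj_obj, Functor.const_obj_map, Category.id_comp]
        apply (AddCommGrpCat.uliftZMultiplesAddEquiv _).injective
        rw [AddEquiv.apply_symm_apply, ← s.2 f]
        change _ = (G.map f) ((AddCommGrpCat.uliftZMultiplesAddEquiv _)
          ((AddCommGrpCat.uliftZMultiplesAddEquiv _).symm (s.1 X)))
        rw [AddEquiv.apply_symm_apply]
        rfl }
  left_inv α := by
    ext X : 2
    exact (AddCommGrpCat.uliftZMultiplesAddEquiv _).symm_apply_apply _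
  right_inv s := by
    apply Subtype.ext
    funext X
    exact (AddCommGrpCat.uliftZMultiplesAddEquiv _).apply_symm_apply _

lemma constHomEquiv_comp {G G' : Cᵒᵖ ⥤ AddCommGrpCat.{u}}
    (α : (Functor.const Cᵒᵖ).obj (AddCommGrpCat.of (ULift.{u} ℤ)) ⟶ G) (g : G ⟶ G') (X : Cᵒᵖ) :
    (constHomEquiv G' (α ≫ g)).1 X = g.app X ((constHomEquiv G α).1 X) := rfl


variable (R : Sheaf J RingCat.{u})

/-- `Hom(O, M) ≃ Hom(ℤ, M_ab)`. -/
noncomputable def unitEquiv (M : SheafOfModules.{u} R) :
    (SheafOfModules.unit R ⟶ M) ≃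
      ((constantSheaf J AddCommGrpCat.{u}).obj (AddCommGrpCat.of (ULift.{u} ℤ)) ⟶
        (SheafOfModules.toSheaf R).obj M) :=
  M.unitHomEquiv.trans ((constHomEquiv (M.val.presheaf)).symm.trans
    ((sheafificationAdjunction J AddCommGrpCat.{u}).homEquiv _
      ((SheafOfModules.toSheaf R).obj M)).symm)

lemma constHomEquiv_symm_comp {G G' : Cᵒᵖ ⥤ AddCommGrpCat.{u}}
    (s : (G ⋙ forget _).sections) (g : G ⟶ G') (s' : (G' ⋙ forget _).sections)
    (hs : ∀ X, s'.1 X = g.app X (s.1 X)) :
    (constHomEquiv G').symm s' = (constHomEquiv G).symm s ≫ g := by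
  apply (constHomEquiv G').injective
  rw [Equiv.apply_symm_apply]
  apply Subtype.ext
  funext X
  rw [constHomEquiv_comp, Equiv.apply_symm_apply, hs]

lemma unitEquiv_comp {M M' : SheafOfModules.{u} R} (ψ : SheafOfModules.unit R ⟶ M)
    (g : M ⟶ M') :
    unitEquiv J R M' (ψ ≫ g) = unitEquiv J R M ψ ≫ (SheafOfModules.toSheaf R).map g := by
  have h1 : (constHomEquiv M'.val.presheaf).symm (M'.unitHomEquiv (ψ ≫ g)) =
      (constHomEquiv M.val.presheaf).symm (M.unitHomEquiv ψ) ≫
        (sheafToPresheaf J AddCommGrpCat.{u}).map ((SheafOfModules.toSheaf R).map g) :=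
    constHomEquiv_symm_comp _ _ _ (fun X => rfl)
  change ((sheafificationAdjunction J AddCommGrpCat.{u}).homEquiv _
      ((SheafOfModules.toSheaf R).obj M')).symm
        ((constHomEquiv M'.val.presheaf).symm (M'.unitHomEquiv (ψ ≫ g))) =
    ((sheafificationAdjunction J AddCommGrpCat.{u}).homEquiv _
      ((SheafOfModules.toSheaf R).obj M)).symm
        ((constHomEquiv M.val.presheaf).symm (M.unitHomEquiv ψ)) ≫ _
  rw [h1]
  exact Adjunction.homEquiv_naturality_right_symm _ _ _

attribute [local instance] HasDerivedCategory.standard in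
theorem nonempty_ext_unit_equiv [HasExt.{u} (SheafOfModules.{u} R)] (M : SheafOfModules.{u} R)
    (n : ℕ) :
    Nonempty (Abelian.Ext (SheafOfModules.unit R) M n ≃+
      Sheaf.H.{u} ((SheafOfModules.toSheaf R).obj M) n) := by
  haveI := Groth.Agent.H1.sheafOfModules_isGrothendieckAbelian J R
  haveI : HasInjectiveResolutions (SheafOfModules.{u} R) := inferInstance
  haveI : PreservesFiniteColimits (SheafOfModules.toSheaf.{u} R) :=
    PreservesColimitsOfSize.preservesFiniteColimits _
  haveI : PreservesLimitsOfSize.{u, u} (SheafOfModules.toSheaf.{u} R) :=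
    (Ladj R).rightAdjoint_preservesLimits
  haveI : PreservesFiniteLimits (SheafOfModules.toSheaf.{u} R) :=
    PreservesLimitsOfSize.preservesFiniteLimits _
  haveI : (SheafOfModules.toSheaf.{u} R).PreservesHomology := inferInstance
  refine nonempty_ext_equiv_of_exact (SheafOfModules.toSheaf R) _ _
    (homFIsoOfEquiv (SheafOfModules.toSheaf R) (unitEquiv J R) (fun M M' ψ g =>
      unitEquiv_comp J R ψ g))
    (fun Q hQ k => ?_) M n
  haveI := hQ
  refine subsingleton_ext_toSheaf_of_injective R Q _ (isTF_sheafify _ ?_) k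
  intro W m x hm hx
  have hx' : m • x.down = 0 := congrArg ULift.down hx
  have : x.down = 0 := by
    rcases smul_eq_zero.1 hx' with h | h
    · exact absurd h hm
    · exact h
  exact ULift.ext _ _ this


/-- `Hom(O[K], M) ≃ Hom(ℤ[K]^#, M_ab)`. -/
noncomputable def freeEquiv (K₀ : Cᵒᵖ ⥤ Type u) (M : SheafOfModules.{u} R) :
    ((PresheafOfModules.sheafification.{u} (𝟙 R.obj)).obj
      ((PresheafOfModules.free R.obj).obj K₀) ⟶ M) ≃
      (ZR J K₀ ⟶ (SheafOfModules.toSheaf R).obj M) :=
  ((PresheafOfModules.sheafificationAdjunction (𝟙 R.obj)).homEquiv _ _).trans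
    (((PresheafOfModules.freeAdjunction R.obj).homEquiv _ _).trans
      (homEquivR K₀ ((SheafOfModules.toSheaf R).obj M)).symm)

lemma freeEquiv_comp (K₀ : Cᵒᵖ ⥤ Type u) {M M' : SheafOfModules.{u} R}
    (ψ : (PresheafOfModules.sheafification.{u} (𝟙 R.obj)).obj
      ((PresheafOfModules.free R.obj).obj K₀) ⟶ M) (g : M ⟶ M') :
    freeEquiv J R K₀ M' (ψ ≫ g) = freeEquiv J R K₀ M ψ ≫ (SheafOfModules.toSheaf R).map g := by
  apply (homEquivR K₀ ((SheafOfModules.toSheaf R).obj M')).injective
  rw [homEquivR_comp]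
  simp only [freeEquiv, Equiv.trans_apply]
  rw [Adjunction.homEquiv_naturality_right, Adjunction.homEquiv_naturality_right]
  erw [Equiv.apply_symm_apply, Equiv.apply_symm_apply]
  rfl

attribute [local instance] HasDerivedCategory.standard in
theorem nonempty_ext_free_equiv [HasExt.{u} (SheafOfModules.{u} R)] (K₀ : Cᵒᵖ ⥤ Type u)
    (M : SheafOfModules.{u} R) (n : ℕ) :
    Nonempty (Abelian.Ext ((PresheafOfModules.sheafification.{u} (𝟙 R.obj)).obj
      ((PresheafOfModules.free R.obj).obj K₀)) M n ≃+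
      Abelian.Ext (ZR J K₀) ((SheafOfModules.toSheaf R).obj M) n) := by
  haveI := Groth.Agent.H1.sheafOfModules_isGrothendieckAbelian J R
  haveI : HasInjectiveResolutions (SheafOfModules.{u} R) := inferInstance
  haveI : PreservesFiniteColimits (SheafOfModules.toSheaf.{u} R) :=
    PreservesColimitsOfSize.preservesFiniteColimits _
  haveI : PreservesLimitsOfSize.{u, u} (SheafOfModules.toSheaf.{u} R) :=
    (Ladj R).rightAdjoint_preservesLimits
  haveI : PreservesFiniteLimits (SheafOfModules.toSheaf.{u} R) :=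
    PreservesLimitsOfSize.preservesFiniteLimits _
  haveI : (SheafOfModules.toSheaf.{u} R).PreservesHomology := inferInstance
  refine nonempty_ext_equiv_of_exact (SheafOfModules.toSheaf R) _ _
    (Groth.Agent.LD.KT.homFIsoOfEquiv (SheafOfModules.toSheaf R) (freeEquiv J R K₀)
      (fun M M' ψ g => freeEquiv_comp J R K₀ ψ g))
    (fun Q hQ k => ?_) M n
  haveI := hQ
  exact subsingleton_ext_toSheaf_of_injective R Q _ (isTF_ZR K₀) k

end Groth.Agent.LD.KT
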