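import Mathlib
import Groth.Agent.Lib.Lead.KT.Core
import Groth.Agent.Lib.Lead.MS.Flat2

/-! # `Hom_O(F, I)` is totally acyclic for `I` injective. -/

universe u
open CategoryTheory Limits Opposite Abelian TensorProduct

namespace Groth.Agent.LD.KT
open Groth.Agent.LD.MS

variable {C : Type u} [SmallCategory C] {J : GrothendieckTopology C}
  (O : Sheaf J CommRingCat.{u})

/-- `O ⊗_ℤ A` is flat for `A` torsion-free. -/
theorem isFlat_L_of_isTF (A : Sheaf J AddCommGrpCat.{u}) (hA : IsTF A) :
    ModSite.IsFlat ((L (ModSite.ringSh O)).obj A) := by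
  refine isFlat_sheafify_of_flat (O := O) (extZ (ModSite.ringSh O).obj A.obj) (fun X => ?_)
  have h1 : Module.Flat ℤ (A.obj.obj X) := flat_of_tf _ (fun n q hn hq => hA X.unop n q hn hq)
  exact inferInstanceAs (Module.Flat (O.obj.obj X) ((O.obj.obj X) ⊗[ℤ] (A.obj.obj X)))


instance L_isLeftAdjoint (R : Sheaf J RingCat.{u}) : (L R).IsLeftAdjoint :=
  (Ladj R).isLeftAdjoint

instance L_additive (R : Sheaf J RingCat.{u}) : (L R).Additive :=
  (Ladj R).left_adjoint_additive

/-- `L` is exact on short exact sequences with torsion-free cokernel. -/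
theorem shortExact_map_L (S : ShortComplex (Sheaf J AddCommGrpCat.{u})) (hS : S.ShortExact)
    (h3 : IsTF S.X₃) : (S.map (L (ModSite.ringSh O))).ShortExact := by
  haveI : PreservesFiniteColimits (L (ModSite.ringSh O)) := inferInstance
  haveI := hS.epi_g
  have h := exact_map_of_rightExact (L (ModSite.ringSh O)) S hS.exact
  exact { exact := h.1
          mono_f := mono_L_map (ModSite.ringSh O) S hS h3
          epi_g := h.2 }

/-- **`Ext^{n+1}(A, Hom_O(F, I)) = 0`** for `A` a torsion-free abelian sheaf and `I` injective. -/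
theorem subsingleton_ext_sheafHom_of_injective (F I : ModSite.Mod O) [ModSite.HasSheafHom F]
    [Injective I] (A : Sheaf J AddCommGrpCat.{u}) (hA : IsTF A) (n : ℕ) :
    Subsingleton (Ext.{u} A (ModSite.toAb ((ModSite.sheafHom F).obj I)) (n + 1)) := by
  let Φ : Sheaf J AddCommGrpCat.{u} ⥤ ModSite.Mod O :=
    L (ModSite.ringSh O) ⋙ (ModSite.tensorBi O).flip.obj F
  let Ψ : ModSite.Mod O ⥤ Sheaf J AddCommGrpCat.{u} :=
    ModSite.sheafHom F ⋙ SheafOfModules.toSheaf (ModSite.ringSh O)
  let adj : Φ ⊣ Ψ := (Ladj (ModSite.ringSh O)).comp (ModSite.sheafHomAdj F)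
  have hΦ : ∀ (S : ShortComplex (Sheaf J AddCommGrpCat.{u})), S.ShortExact → IsTF S.X₃ →
      Mono (Φ.map S.f) := fun S hS h3 =>
    (shortExact_map_flip_of_flat _ (shortExact_map_L O S hS h3)
      (isFlat_L_of_isTF O _ h3) F).mono_f
  exact subsingleton_ext_of_adj Φ Ψ adj IsTF exists_tf_epi
    (fun S hS h2 _ => by
      have := hS.mono_f
      exact isTF_of_mono S.f h2) hΦ I n A hA

/-- **S6150.** -/
theorem isTotallyAcyclic_sheafHom_of_injective (F I : ModSite.Mod O) [ModSite.HasSheafHom F]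
    [Injective I] : CohCx.IsTotallyAcyclic (ModSite.toAb ((ModSite.sheafHom F).obj I)) :=
  fun K p => subsingleton_ext_sheafHom_of_injective O F I _ (isTF_ZR K.obj) p

end Groth.Agent.LD.KT
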