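import Mathlib
import Groth.Prelude.Def_ModSite2
import Groth.Agent.Lib.Lead.KT.HomAcyc
import Groth.Agent.Lib.Lead.KT.ExtCompare
import Groth.Agent.Lib.Lead.CechExt.Bot

/-! # The local-to-global Ext spectral sequence. -/

universe u
open CategoryTheory Limits Opposite Abelian MonoidalCategory

namespace Groth.Agent.LD.KT
open Groth.Agent.LD.MS Groth.Agent.LD.GSS

variable {C : Type u} [SmallCategory C] {J : GrothendieckTopology C}
  (O : Sheaf J CommRingCat.{u})

/-- `O ⊗ M ≅ M`. -/
noncomputable def tensorUnitIso (M : ModSite.Mod O) :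
    ((ModSite.tensorBi O).flip.obj M).obj (ModSite.unit O) ≅ M :=
  (show ((ModSite.tensorBi O).flip.obj M).obj (ModSite.unit O) ≅
      (shf O).obj ((incl O).obj M) from (shf O).mapIso (λ_ ((incl O).obj M))) ≪≫
    asIso ((sadj' O).counit.app M)


/-- the constant sheaf `ℤ`. -/
noncomputable abbrev ZC (J : GrothendieckTopology C) : Sheaf J AddCommGrpCat.{u} :=
  (constantSheaf J AddCommGrpCat.{u}).obj (AddCommGrpCat.of (ULift.{u} ℤ))

/-- `N ↦ Hom_O(M, N)_ab`. -/
noncomputable abbrev homAb (M : ModSite.Mod O) [ModSite.HasSheafHom M] :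
    ModSite.Mod O ⥤ Sheaf J AddCommGrpCat.{u} :=
  ModSite.sheafHom M ⋙ SheafOfModules.toSheaf (ModSite.ringSh O)

/-- `Hom(M, N) ≃ Γ(Hom_O(M, N))`. -/
noncomputable def homEquivGlobal (M : ModSite.Mod O) [ModSite.HasSheafHom M] (N : ModSite.Mod O) :
    (M ⟶ N) ≃ (ZC J ⟶ (homAb O M).obj N) :=
  ((Iso.homFromEquiv (tensorUnitIso O M)).symm.trans
    ((ModSite.sheafHomAdj M).homEquiv (ModSite.unit O) N)).trans
      (unitEquiv J (ModSite.ringSh O) ((ModSite.sheafHom M).obj N))

lemma homEquivGlobal_comp (M : ModSite.Mod O) [ModSite.HasSheafHom M] {N N' : ModSite.Mod O}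
    (ψ : M ⟶ N) (g : N ⟶ N') :
    homEquivGlobal O M N' (ψ ≫ g) = homEquivGlobal O M N ψ ≫ (homAb O M).map g := by
  simp only [homEquivGlobal, Equiv.trans_apply]
  rw [Functor.comp_map, ← unitEquiv_comp, ← Adjunction.homEquiv_naturality_right]
  congr 2


attribute [local instance] HasDerivedCategory.standard in
/-- **Local-to-global Ext spectral sequence.** -/
theorem exists_localToGlobal (M N : ModSite.Mod O) [ModSite.HasSheafHom M]
    [HasInjectiveResolutions (ModSite.Mod O)] [HasExt.{u} (ModSite.Mod O)]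
    (Z Z' : AddCommGrpCat.{u}) (hZ : IsZero Z) (hZ' : IsZero Z') :
    ∃ (E : E₂CohomologicalSpectralSequence AddCommGrpCat.{u})
      (a : SpSeq.Abutment E (fun n : ℤ =>
        if 0 ≤ n then AddCommGrpCat.of (Abelian.Ext.{u} M N n.toNat) else Z')),
      (∀ n : ℤ, a.IsFinite n) ∧ SpSeq.IsBounded E ∧
      ∀ p q : ℤ, Nonempty ((E.page 2 le_rfl).X (p, q) ≅
        (if 0 ≤ p ∧ 0 ≤ q then
          AddCommGrpCat.of (ModSite.HC O ((ModSite.extSh M q.toNat).obj N) p.toNat)
          else Z)) := by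
  haveI : PreservesFiniteColimits (SheafOfModules.toSheaf.{u} (ModSite.ringSh O)) :=
    PreservesColimitsOfSize.preservesFiniteColimits _
  haveI : PreservesLimitsOfSize.{u, u} (SheafOfModules.toSheaf.{u} (ModSite.ringSh O)) :=
    (Ladj (ModSite.ringSh O)).rightAdjoint_preservesLimits
  haveI : PreservesFiniteLimits (SheafOfModules.toSheaf.{u} (ModSite.ringSh O)) :=
    PreservesLimitsOfSize.preservesFiniteLimits _
  haveI : (SheafOfModules.toSheaf.{u} (ModSite.ringSh O)).PreservesHomology := inferInstance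
  obtain ⟨E, a, h1, h2, h3⟩ := exists_gss (homAb O M) (ZC J) M
    (homFIsoOfEquiv (homAb O M) (homEquivGlobal O M)
      (fun N N' ψ g => homEquivGlobal_comp O M ψ g))
    (fun Q hQ k => by
      haveI := hQ
      refine subsingleton_ext_sheafHom_of_injective O M Q _ (isTF_sheafify _ ?_) k
      intro W m x hm hx
      have hx' : m • x.down = 0 := congrArg ULift.down hx
      have : x.down = 0 := by
        rcases smul_eq_zero.1 hx' with h | h
        · exact absurd h hm
        · exact h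
      exact ULift.ext _ _ this) N Z Z' hZ hZ'
  refine ⟨E, a, h1, h2, fun p q => ?_⟩
  obtain ⟨e⟩ := h3 p q
  by_cases hpq : 0 ≤ p ∧ 0 ≤ q
  · rw [if_pos hpq] at e ⊢
    exact ⟨e ≪≫ (extCongrRight (Groth.Agent.LD.CE.rightDerivedObjCompIso (ModSite.sheafHom M)
      (SheafOfModules.toSheaf (ModSite.ringSh O)) N q.toNat) p.toNat).toAddCommGrpIso⟩
  · rw [if_neg hpq] at e ⊢
    exact ⟨e⟩

end Groth.Agent.LD.KT
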